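import Groth.Agent.SekSuwaLib.Points
import Groth.Prelude.Def_Red

/-! On schemes where `λ` is invertible, `α^{λ,N}` is bijective on points. -/

universe u

open CategoryTheory MonoidalCategory CartesianMonoidalCategory MonObj AlgebraicGeometry

namespace Groth.Agent.SekSuwaLib

open SekSuwa

set_option backward.isDefEq.respectTransparency.types false
set_option backward.isDefEq.respectTransparency false

variable {R : Type u} [CommRing R] {lam : R} {N : ℕ} (h : DivCond lam N)

theorem alphaN_bijective [NeZero N] (T : Over (Spec (CommRingCat.of R))) (hlam : IsUnit (strHom T lam)) :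
    Function.Bijective fun g : T ⟶ GK R lam N h => g ≫ alphaN R lam N h := by
  have hgen : ∀ g : T ⟶ GK R lam N h,
      ptRingHom (g ≫ alphaN R lam N h) (MonoidAlgebra.single (Multiplicative.ofAdd (1 : ZMod N)) (1 : R)) =
        1 + strHom T lam * ptRingHom g AK.t := fun g => by
    rw [alphaN, ptRingHom_comp_specHom, alphaNHom_single_one, map_add, map_one, Algebra.smul_def, map_mul,
      ptRingHom_algebraMap]
  have hinv : (AK.inv : AK R lam N h) = (1 + lam • AK.t) ^ (N - 1) := by
    have e1 : (1 + lam • (AK.t : AK R lam N h)) * AK.inv = 1 := by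
      have := congrArg (AK.mkHom R lam N h) (A.u_mul_inv (R := R) (lam := lam))
      rw [map_mul, map_one, A.u, map_add, map_one, map_smul] at this
      exact this
    calc (AK.inv : AK R lam N h) = (1 + lam • AK.t) ^ N * AK.inv := by rw [AK.u_pow, _root_.one_mul]
      _ = _ := by rw [← pow_sub_one_mul (NeZero.ne N) (1 + lam • (AK.t : AK R lam N h)), _root_.mul_assoc, e1, _root_.mul_one]
  letI := algΓ T
  refine ⟨fun f g e => ?_, fun m => ?_⟩
  · have e' := congrArg (fun q => ptRingHom q (MonoidAlgebra.single (Multiplicative.ofAdd (1 : ZMod N)) (1 : R))) e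
    simp only [hgen, add_right_inj] at e'
    have ht := hlam.mul_left_cancel e'
    have hi : ptRingHom f AK.inv = ptRingHom g AK.inv := by
      simp only [hinv, map_pow, map_add, map_one, Algebra.smul_def, map_mul, ptRingHom_algebraMap, ht]
    apply ptRingHom_injective
    let f₁ : AK R lam N h →ₐ[R] Γ(T.left, ⊤) := { ptRingHom f with commutes' := ptRingHom_algebraMap f }
    let g₁ : AK R lam N h →ₐ[R] Γ(T.left, ⊤) := { ptRingHom g with commutes' := ptRingHom_algebraMap g }
    exact congrArg AlgHom.toRingHom (AK.algHom_ext (f := f₁) (g := g₁) ht hi)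
  · let φ : MonoidAlgebra R (Multiplicative (ZMod N)) →ₐ[R] Γ(T.left, ⊤) :=
      { ptRingHom m with commutes' := ptRingHom_algebraMap m }
    let z := φ (MonoidAlgebra.single (Multiplicative.ofAdd (1 : ZMod N)) (1 : R))
    have hz : z ^ N = 1 := by
      rw [← map_pow, MonoidAlgebra.single_pow, one_pow, ← ofAdd_nsmul, nsmul_one, ZMod.natCast_self, ofAdd_zero]
      exact map_one φ
    let a : Γ(T.left, ⊤) := ↑hlam.unit⁻¹ * (z - 1)
    have hla : strHom T lam * a = z - 1 := by
      simp only [a, ← _root_.mul_assoc, IsUnit.mul_val_inv, _root_.one_mul]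
    have hu : (1 + lam • a) * z ^ (N - 1) = 1 := by
      rw [Algebra.smul_def]
      change (1 + strHom T lam * a) * _ = 1
      rw [hla, add_sub_cancel, ← pow_succ', Nat.sub_add_cancel (Nat.one_le_iff_ne_zero.2 (NeZero.ne N)), hz]
    have hP : Polynomial.aeval a (psiPoly lam N h) = 0 := by
      have h1 := aeval_psiPoly h a
      change strHom T (lam ^ N) * _ = (1 + strHom T lam * a) ^ N - 1 at h1
      rw [hla, add_sub_cancel, hz, sub_self, map_pow] at h1
      exact (hlam.pow N).mul_right_eq_zero.1 h1
    let ψ : AK R lam N h →ₐ[R] Γ(T.left, ⊤) :=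
      Ideal.Quotient.liftₐ (kerIdeal lam N h) (A.lift R lam a (z ^ (N - 1)) hu) (by
        intro w hw
        obtain ⟨c, rfl⟩ := Ideal.mem_span_singleton'.mp hw
        rw [map_mul, kerGen, ← Polynomial.aeval_algHom_apply, A.lift_t, hP, mul_zero])
    have hψ : ψ AK.t = a := A.lift_t _ _ hu
    let g : T ⟶ GK R lam N h := ofRingHom ψ.toRingHom ψ.commutes
    refine ⟨g, ptRingHom_injective ?_⟩
    let χ : MonoidAlgebra R (Multiplicative (ZMod N)) →ₐ[R] Γ(T.left, ⊤) :=
      { ptRingHom (g ≫ alphaN R lam N h) with commutes' := ptRingHom_algebraMap (g ≫ alphaN R lam N h) }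
    have hχ : χ (MonoidAlgebra.single (Multiplicative.ofAdd (1 : ZMod N)) (1 : R)) = z := by
      change ptRingHom (g ≫ alphaN R lam N h) _ = z
      rw [hgen, ptRingHom_ofRingHom]
      change 1 + strHom T lam * ψ AK.t = z
      rw [hψ, hla, add_sub_cancel]
    suffices χ = φ from congrArg AlgHom.toRingHom this
    apply AlgHom.toLinearMap_injective
    refine MonoidAlgebra.lhom_ext' fun x => LinearMap.ext_ring ?_
    have e : MonoidAlgebra.single x (1 : R) =
        MonoidAlgebra.single (Multiplicative.ofAdd (1 : ZMod N)) (1 : R) ^ (Multiplicative.toAdd x).val := by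
      rw [MonoidAlgebra.single_pow, one_pow, ← ofAdd_nsmul, nsmul_one, ZMod.natCast_zmod_val, ofAdd_toAdd]
    change χ (MonoidAlgebra.single x 1) = φ (MonoidAlgebra.single x 1)
    rw [e, map_pow, map_pow, hχ]

end Groth.Agent.SekSuwaLib
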